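import Cfsg.Agent.Lib.MaxSub.ResThree.Tv.Small.Pair
import Mathlib.GroupTheory.SpecificGroups.Dihedral
import Mathlib.GroupTheory.Nilpotent
import Mathlib.GroupTheory.Sylow

/-!
Root groups of size two: a corner gives a dihedral Sylow subgroup of order eight.
-/

set_option autoImplicit false
set_option linter.unusedSectionVars false

namespace CfsgLib.ResThree.Tv

open Matrix

/-- Unitriangular matrix over the field with two elements. -/
def ut2 (a b z : ZMod 2) : Matrix (Fin 3) (Fin 3) (ZMod 2) := !![1, a, z; 0, 1, b; 0, 0, 1]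

/-- The dihedral group of order eight as unitriangular matrices. -/
def utDi : DihedralGroup 4 → Matrix (Fin 3) (Fin 3) (ZMod 2)
  | .r i => (ut2 1 0 0 * ut2 0 1 0) ^ i.val
  | .sr i => ut2 1 0 0 * (ut2 1 0 0 * ut2 0 1 0) ^ i.val

theorem utDi_one : utDi 1 = 1 := by decide

set_option maxRecDepth 100000 in
theorem utDi_mul : ∀ g h : DihedralGroup 4, utDi (g * h) = utDi g * utDi h := by decide +kernel

theorem utDi_inj : ∀ g h : DihedralGroup 4, utDi g = utDi h → g = h := by decide +kernel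

theorem utDi_range : ∀ g : DihedralGroup 4, ∃ a b z, utDi g = ut2 a b z := by decide +kernel

theorem utDi_surj : ∀ a b z : ZMod 2, ∃ g, utDi g = ut2 a b z := by decide +kernel

theorem ut2_sq : ∀ a b z : ZMod 2, ∃ t, ut2 a b z * ut2 a b z = ut2 0 0 t := by decide +kernel

theorem ut2_gen : ∀ a b z : ZMod 2, ut2 a b z = ut2 0 0 z * ut2 0 b 0 * ut2 a 0 0 := by decide +kernel

theorem zmod_two_cases : ∀ x : ZMod 2, x = 0 ∨ x = 1 := by decide

variable {F : Type*} [Field F]

/-- Unitriangular matrix. -/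
def ut (a b z : F) : Matrix (Fin 3) (Fin 3) F := !![1, a, z; 0, 1, b; 0, 0, 1]

theorem ut_mul (a b z a' b' z' : F) : ut a b z * ut a' b' z' = ut (a + a') (b + b') (z + z' + a * b') := by
  ext i j
  fin_cases i <;> fin_cases j <;>
    simp [ut, Matrix.mul_apply, Fin.sum_univ_three] <;> ring

theorem ut_inj {a b z a' b' z' : F} (h : ut a b z = ut a' b' z') : a = a' ∧ b = b' ∧ z = z' :=
  ⟨congrFun (congrFun h 0) 1, congrFun (congrFun h 1) 2, congrFun (congrFun h 0) 2⟩

theorem map_ut2 [CharP F 2] (a b z : ZMod 2) :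
    (ut2 a b z).map (ZMod.castHom (dvd_refl 2) F) =
      ut (ZMod.castHom (dvd_refl 2) F a) (ZMod.castHom (dvd_refl 2) F b) (ZMod.castHom (dvd_refl 2) F z) := by
  ext i j
  fin_cases i <;> fin_cases j <;> simp [ut2, ut]

variable {P : Subgroup (Matrix.GeneralLinearGroup (Fin 3) F)}

theorem diag_mul {M N : Matrix (Fin 3) (Fin 3) F} (hM1 : M 1 0 = 0) (hM2 : M 2 0 = 0) (hM3 : M 2 1 = 0)
    (hN1 : N 1 0 = 0) (hN2 : N 2 0 = 0) (hN3 : N 2 1 = 0) :
    ((M * N) 1 0 = 0 ∧ (M * N) 2 0 = 0 ∧ (M * N) 2 1 = 0) ∧ ∀ i, (M * N) i i = M i i * N i i := by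
  refine ⟨⟨?_, ?_, ?_⟩, fun i => ?_⟩
  · simp [Matrix.mul_apply, Fin.sum_univ_three, hM1, hN1, hN2]
  · simp [Matrix.mul_apply, Fin.sum_univ_three, hM2, hM3, hN2]
  · simp [Matrix.mul_apply, Fin.sum_univ_three, hM2, hM3, hN3]
  · fin_cases i <;> simp [Matrix.mul_apply, Fin.sum_univ_three, hM1, hM2, hM3, hN1, hN2, hN3]

theorem diag_pow {M : Matrix (Fin 3) (Fin 3) F} (h1 : M 1 0 = 0) (h2 : M 2 0 = 0) (h3 : M 2 1 = 0) (n : ℕ) :
    ((M ^ n) 1 0 = 0 ∧ (M ^ n) 2 0 = 0 ∧ (M ^ n) 2 1 = 0) ∧ ∀ i, (M ^ n) i i = M i i ^ n := by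
  induction n with
  | zero => exact ⟨⟨by simp, by simp, by simp⟩, fun i => by simp⟩
  | succ n ih =>
    obtain ⟨⟨a1, a2, a3⟩, ad⟩ := ih
    obtain ⟨ha, hd⟩ := diag_mul a1 a2 a3 h1 h2 h3
    rw [pow_succ]
    exact ⟨ha, fun i => by rw [hd, ad, ← pow_succ]⟩

variable [Finite F]

/-- The frame of a corner. -/
theorem corner_frame (hT : Tiny P) {c φ φ' c' : Fin 3 → F} (h1 : Root P c φ) (h2 : Root P c φ')
    (h3 : Root P c' φ) (hφ : φ' ≠ φ) (hc : c' ≠ c) :
    ∃ e d : Fin 3 → Fin 3 → F, (∀ i j, d i ⬝ᵥ e j = if i = j then 1 else 0) ∧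
      (∀ g : Matrix.GeneralLinearGroup (Fin 3) F, g.1 = 1 + vecMulVec c φ → coords e d g.1 = ut 0 0 1) ∧
      (∀ g : Matrix.GeneralLinearGroup (Fin 3) F, g.1 = 1 + vecMulVec c φ' → coords e d g.1 = ut 1 0 0) ∧
      (∀ g : Matrix.GeneralLinearGroup (Fin 3) F, g.1 = 1 + vecMulVec c' φ → coords e d g.1 = ut 0 1 0) ∧
      (∀ z : F, coords e d (1 + vecMulVec (z • c) φ) = ut 0 0 z) := by
  classical
  have d1 := hT.dot h1.2.2
  have d2 := hT.dot h2.2.2
  have d3 := hT.dot h3.2.2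
  have hli : LinearIndependent F ![c, c'] := (LinearIndependent.pair_iff' h1.1).2 fun t ht => hc (by
    rw [← ht, hT.eq_one h1 (t := t) (fun e => h3.1 (by rw [← ht, e, zero_smul])) (ht ▸ h3.2.2), one_smul])
  have hd : φ' ⬝ᵥ c' ≠ 0 := by
    intro e
    obtain ⟨k, hk⟩ := prop_of_kills hli h1.2.1 d1 d3 d2 e
    exact one_ne_zero (α := F) ((LinearIndependent.pair_iff.1 (hT.axes_indep h1 h2 hφ) (-k) 1 (by
      rw [hk, neg_smul, one_smul, neg_add_cancel])).2)
  have hd1 : φ' ⬝ᵥ c' = 1 := by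
    have hm := hT.conj h2.2.2 h3.2.2
    rw [d1, zero_smul, add_zero] at hm
    have := hT.add_centre h3.2.2 hm
    rw [← add_assoc, ← two_smul F c', hT.two, zero_smul, zero_add] at this
    exact hT.eq_one h1 hd this
  obtain ⟨w, hw⟩ : ∃ w, φ ⬝ᵥ w ≠ 0 := by
    by_contra h
    push Not at h
    exact h1.2.1 (dotProduct_eq_zero _ h)
  set n := (φ ⬝ᵥ w)⁻¹ • (w - (φ' ⬝ᵥ w) • c')
  have n1 : φ ⬝ᵥ n = 1 := by
    simp only [n, dotProduct_smul, dotProduct_sub, d3, smul_eq_mul, mul_zero, sub_zero, inv_mul_cancel₀ hw]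
  have n2 : φ' ⬝ᵥ n = 0 := by
    simp only [n, dotProduct_smul, dotProduct_sub, hd1, smul_eq_mul, mul_one, sub_self, mul_zero]
  clear_value n
  have hli3 : LinearIndependent F ![c, c', n] := by
    rw [Fintype.linearIndependent_iff]
    intro r hr
    simp only [Fin.sum_univ_three, Matrix.cons_val_zero, Matrix.cons_val_one, Matrix.cons_val] at hr
    have ea := congrArg (φ ⬝ᵥ ·) hr
    have eb := congrArg (φ' ⬝ᵥ ·) hr
    simp only [dotProduct_add, dotProduct_smul, d1, d2, d3, hd1, n1, n2, smul_eq_mul, mul_zero, mul_one,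
      zero_add, add_zero, dotProduct_zero] at ea eb
    rw [ea, eb, zero_smul, zero_smul, add_zero, add_zero, smul_eq_zero] at hr
    intro i
    fin_cases i
    · exact hr.resolve_right h1.1
    · exact eb
    · exact ea
  let B := basisOfLinearIndependentOfCardEqFinrank hli3 (by simp)
  let e : Fin 3 → Fin 3 → F := ![c, c', n]
  let M : Matrix (Fin 3) (Fin 3) F := (Matrix.of e)ᵀ
  have hM : IsUnit M.det := by
    rw [← Matrix.isUnit_iff_isUnit_det, ← Matrix.linearIndependent_cols_iff_isUnit]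
    exact hli3
  let d : Fin 3 → Fin 3 → F := fun i => M⁻¹ i
  have hdual : ∀ i j, d i ⬝ᵥ e j = if i = j then 1 else 0 := fun i j => by
    have := congrFun (congrFun (Matrix.nonsing_inv_mul M hM) i) j
    rw [Matrix.one_apply, Matrix.mul_apply] at this
    exact this
  have key : ∀ (x ψ : Fin 3 → F) (i j : Fin 3),
      coords e d (1 + vecMulVec x ψ) i j = (if i = j then 1 else 0) + (ψ ⬝ᵥ e j) * (d i ⬝ᵥ x) := fun x ψ i j => by
    rw [coords_apply, one_add_mulVec, dotProduct_add, dotProduct_smul, hdual, smul_eq_mul]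
  refine ⟨e, d, hdual, fun g hg => ?_, fun g hg => ?_, fun g hg => ?_, fun z => ?_⟩
  all_goals ext i j
  · rw [hg, key, show d i ⬝ᵥ c = if i = 0 then 1 else 0 from hdual i 0]
    fin_cases i <;> fin_cases j <;> simp [e, ut, d1, d3, n1]
  · rw [hg, key, show d i ⬝ᵥ c = if i = 0 then 1 else 0 from hdual i 0]
    fin_cases i <;> fin_cases j <;> simp [e, ut, d2, hd1, n2]
  · rw [hg, key, show d i ⬝ᵥ c' = if i = 1 then 1 else 0 from hdual i 1]
    fin_cases i <;> fin_cases j <;> simp [e, ut, d1, d3, n1]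
  · rw [key, dotProduct_smul, show d i ⬝ᵥ c = if i = 0 then 1 else 0 from hdual i 0]
    fin_cases i <;> fin_cases j <;> simp [e, ut, d1, d3, n1]

/-- A corner gives a dihedral Sylow two-subgroup. -/
theorem Corner.dihedral (hT : Tiny P) (hC : Corner P) : DihedralSylow P := by
  classical
  haveI : CharP F 2 := CharTwo.of_one_ne_zero_of_two_eq_zero one_ne_zero hT.two
  haveI : Fact (Nat.Prime 2) := ⟨Nat.prime_two⟩
  obtain ⟨c, φ, φ', c', h1, h2, h3, hφ, hc⟩ := hC
  obtain ⟨e, d, hdual, hZ, hA, hB, hz⟩ := corner_frame hT h1 h2 h3 hφ hc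
  let f := ZMod.castHom (dvd_refl 2) F
  have f01 := zmod_two_cases
  obtain ⟨gZ, hgZ, eZ⟩ := h1.2.2
  obtain ⟨gA, hgA, eA⟩ := h2.2.2
  obtain ⟨gB, hgB, eB⟩ := h3.2.2
  have hlift : ∀ a b z : ZMod 2, ∃ g ∈ P, coords e d g.1 = ut (f a) (f b) (f z) := by
    intro a b z
    have gen : ∀ (g : Matrix.GeneralLinearGroup (Fin 3) F), g ∈ P → ∀ x : ZMod 2, ∀ M : ZMod 2 → Matrix (Fin 3) (Fin 3) F,
        M 0 = 1 → M 1 = coords e d g.1 → ∃ h ∈ P, coords e d h.1 = M x := by
      intro g hg x M h0 h1'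
      rcases f01 x with rfl | rfl
      · exact ⟨1, P.one_mem, by rw [h0, Units.val_one, coords_one hdual]⟩
      · exact ⟨g, hg, h1'.symm⟩
    have one_ut : (ut 0 0 0 : Matrix (Fin 3) (Fin 3) F) = 1 := by
      ext i j
      fin_cases i <;> fin_cases j <;> simp [ut]
    obtain ⟨u, hu, eu⟩ := gen gZ hgZ z (fun x => ut 0 0 (f x)) (by simp [one_ut]) (by simp [hZ gZ eZ])
    obtain ⟨v, hv, ev⟩ := gen gB hgB b (fun x => ut 0 (f x) 0) (by simp [one_ut]) (by simp [hB gB eB])
    obtain ⟨w, hw, ew⟩ := gen gA hgA a (fun x => ut (f x) 0 0) (by simp [one_ut]) (by simp [hA gA eA])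
    refine ⟨u * v * w, P.mul_mem (P.mul_mem hu hv) hw, ?_⟩
    rw [Units.val_mul, Units.val_mul, coords_mul hdual, coords_mul hdual, eu, ev, ew, ut_mul, ut_mul]
    simp
  have hliftD : ∀ x : DihedralGroup 4, ∃ g : P, coords e d g.1.1 = (utDi x).map f := by
    intro x
    obtain ⟨a, b, z, hx⟩ := utDi_range x
    obtain ⟨g, hg, eg⟩ := hlift a b z
    exact ⟨⟨g, hg⟩, by rw [eg, hx, map_ut2]⟩
  choose lift hliftE using hliftD
  let ρ : DihedralGroup 4 →* P := MonoidHom.mk' lift fun x y => Subtype.ext (Units.ext (coords_inj hdual (by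
    rw [hliftE, utDi_mul, Matrix.map_mul, Subgroup.coe_mul, Units.val_mul, coords_mul hdual, hliftE, hliftE])))
  have hρ : Function.Injective ρ := fun x y h => utDi_inj x y (Matrix.map_injective f.injective
    ((hliftE x).symm.trans ((congrArg (fun g : P => coords e d g.1.1) h).trans (hliftE y))))
  have hmem : ∀ g : P, g ∈ ρ.range ↔ ∃ a b z : ZMod 2, coords e d g.1.1 = ut (f a) (f b) (f z) := by
    intro g
    constructor
    · rintro ⟨x, rfl⟩
      obtain ⟨a, b, z, hx⟩ := utDi_range x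
      exact ⟨a, b, z, by rw [← map_ut2, ← hx]; exact hliftE x⟩
    · rintro ⟨a, b, z, hg⟩
      obtain ⟨x, hx⟩ := utDi_surj a b z
      exact ⟨x, Subtype.ext (Units.ext (coords_inj hdual (by rw [hg, ← map_ut2, ← hx]; exact hliftE x)))⟩
  have hU : IsPGroup 2 ρ.range := by
    refine IsPGroup.of_card (n := 3) ?_
    rw [← Nat.card_congr (MonoidHom.ofInjective hρ).toEquiv, DihedralGroup.nat_card]
    norm_num
  obtain ⟨S, hS⟩ := hU.exists_le_sylow
  have hnorm : ∀ g : P, g ∈ (S : Subgroup P) → (∀ u ∈ ρ.range, g * u * g⁻¹ ∈ ρ.range) → g ∈ ρ.range := by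
    intro g hgS hgN
    set M := coords e d g.1.1 with hMdef
    have conjM : ∀ a b z : ZMod 2, ∃ a' b' z' : ZMod 2,
        M * ut (f a) (f b) (f z) = ut (f a') (f b') (f z') * M := by
      intro a b z
      obtain ⟨u, hu, eu⟩ := hlift a b z
      obtain ⟨a', b', z', e'⟩ := (hmem _).1 (hgN ⟨u, hu⟩ ((hmem _).2 ⟨a, b, z, eu⟩))
      refine ⟨a', b', z', ?_⟩
      rw [← eu, ← e', hMdef, ← coords_mul hdual, ← coords_mul hdual]
      congr 1
      simp only [Subgroup.coe_mul, Subgroup.coe_inv, Units.val_mul, mul_assoc, Units.inv_mul, mul_one]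
    have hcancel : ∀ X Y : Matrix (Fin 3) (Fin 3) F, M * X = M * Y → X = Y := by
      intro X Y h
      have := congrArg (coords e d (g⁻¹ : P).1.1 * ·) h
      simpa only [← Matrix.mul_assoc, hMdef, ← coords_mul hdual, Subgroup.coe_inv, Units.inv_mul, coords_one hdual,
        Matrix.one_mul] using this
    -- the centre is fixed
    have hMZ : M * ut 0 0 1 = ut 0 0 1 * M := by
      obtain ⟨u, hu, eu⟩ := hlift 1 1 0
      have hu' : (⟨u, hu⟩ : P) ∈ ρ.range := (hmem _).2 ⟨1, 1, 0, eu⟩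
      obtain ⟨a, b, z, e'⟩ := (hmem _).1 (hgN _ hu')
      have hconj : M * coords e d u.1 = coords e d (g * ⟨u, hu⟩ * g⁻¹ : P).1.1 * M := by
        rw [hMdef, ← coords_mul hdual, ← coords_mul hdual]
        congr 1
        simp only [Subgroup.coe_mul, Subgroup.coe_inv, Units.val_mul, mul_assoc, Units.inv_mul, mul_one]
      rw [eu, e'] at hconj
      have hsq : M * (ut (f 1) (f 1) (f 0) * ut (f 1) (f 1) (f 0)) =
          (ut (f a) (f b) (f z) * ut (f a) (f b) (f z)) * M := by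
        rw [← Matrix.mul_assoc, hconj, Matrix.mul_assoc, hconj, Matrix.mul_assoc]
      obtain ⟨t, ht⟩ := ut2_sq a b z
      have ht' := congrArg (fun X : Matrix (Fin 3) (Fin 3) (ZMod 2) => X.map f) ht
      simp only [Matrix.map_mul, f, map_ut2] at ht'
      rw [ht', ut_mul] at hsq
      simp only [map_zero, map_one, one_add_one_eq_two, hT.two, add_zero, zero_add, mul_one] at hsq
      rcases f01 t with rfl | rfl
      · simp only [map_zero] at hsq
        have h0 : (ut 0 0 0 : Matrix (Fin 3) (Fin 3) F) = 1 := by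
          ext i j
          fin_cases i <;> fin_cases j <;> simp [ut]
        rw [h0, Matrix.one_mul] at hsq
        exact absurd (ut_inj ((hcancel _ _ (hsq.trans (Matrix.mul_one M).symm)).trans h0.symm)).2.2 one_ne_zero
      · simpa using hsq
    have hz' := fun i j => congrFun (congrFun hMZ i) j
    have m10 : M 1 0 = 0 := by
      have := hz' 1 2
      simp [ut, Matrix.mul_apply, Fin.sum_univ_three] at this
      exact this
    have m20 : M 2 0 = 0 := by
      have := hz' 2 2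
      simp [ut, Matrix.mul_apply, Fin.sum_univ_three] at this
      exact this
    have m21 : M 2 1 = 0 := by
      have := hz' 0 1
      simp [ut, Matrix.mul_apply, Fin.sum_univ_three] at this
      exact this
    obtain ⟨k, hk⟩ := S.2 ⟨g, hgS⟩
    have hpow : ∀ n : ℕ, coords e d (g ^ n : P).1.1 = M ^ n := by
      intro n
      induction n with
      | zero => rw [pow_zero, pow_zero, Subgroup.coe_one, Units.val_one, coords_one hdual]
      | succ n ih => rw [pow_succ, pow_succ, Subgroup.coe_mul, Units.val_mul, coords_mul hdual, ih]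
    have hone : M ^ 2 ^ k = 1 := by
      rw [← hpow, show g ^ 2 ^ k = 1 from congrArg Subtype.val hk, Subgroup.coe_one, Units.val_one,
        coords_one hdual]
    have hdiag : ∀ i, M i i = 1 := by
      intro i
      have h := (diag_pow m10 m20 m21 (2 ^ k)).2 i
      rw [hone, Matrix.one_apply_eq] at h
      refine sub_eq_zero.1 (eq_zero_of_pow_eq_zero (n := 2 ^ k) ?_)
      rw [sub_pow_char_pow, ← h, one_pow, sub_self]
    have hM : M = ut (M 0 1) (M 1 2) (M 0 2) := by
      ext i j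
      fin_cases i <;> fin_cases j <;> simp [ut, hdiag, m10, m20, m21]
    obtain ⟨a₁, b₁, z₁, e₁⟩ := conjM 1 0 0
    obtain ⟨a₂, b₂, z₂, e₂⟩ := conjM 0 1 0
    rw [hM, ut_mul, ut_mul] at e₁ e₂
    obtain ⟨ea, eb, ez⟩ := ut_inj e₁
    obtain ⟨ea', eb', ez'⟩ := ut_inj e₂
    simp only [map_zero, map_one] at ea eb ez ea' eb' ez'
    have ha1 : f a₁ = 1 := by linear_combination -ea
    have ha2 : f a₂ = 0 := by linear_combination -ea'
    have hb : M 1 2 = f z₁ := by
      rw [ha1] at ez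
      linear_combination (-1 : F) * ez - f z₁ * hT.two
    have ha : M 0 1 = f z₂ := by
      rw [ha2] at ez'
      linear_combination ez'
    obtain ⟨u, hu, eu⟩ := hlift z₂ z₁ 0
    rw [hmem]
    suffices hzz : ∃ z : ZMod 2, M 0 2 = f z by
      obtain ⟨z, hz⟩ := hzz
      exact ⟨z₂, z₁, z, by rw [← hMdef, hM, ha, hb, hz]⟩
    have hk' : coords e d (g.1 * u⁻¹).1 = ut 0 0 (M 0 2) := by
      have hfac : ut 0 0 (M 0 2) * coords e d u.1 = M := by
        rw [eu, ut_mul]
        conv_rhs => rw [hM, ha, hb]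
        simp
      conv_lhs => rw [Units.val_mul, coords_mul hdual, ← hMdef, ← hfac]
      rw [Matrix.mul_assoc, ← coords_mul hdual, Units.mul_inv, coords_one hdual, Matrix.mul_one]
    rw [← hz] at hk'
    have hm : Mem P (M 0 2 • c) φ := ⟨g.1 * u⁻¹, P.mul_mem g.2 (P.inv_mem hu), coords_inj hdual hk'⟩
    rcases hT.small c φ h1 _ hm with h | h
    · exact ⟨0, by rw [h, map_zero]⟩
    · exact ⟨1, by rw [h, map_one]⟩
  have hle : (S : Subgroup P) ≤ ρ.range := by
    by_contra hne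
    haveI : Group.IsNilpotent (S : Subgroup P) := S.2.isNilpotent
    have hlt : ρ.range.subgroupOf (S : Subgroup P) < ⊤ := lt_top_iff_ne_top.2 fun h => hne (by
      rwa [Subgroup.subgroupOf_eq_top] at h)
    obtain ⟨g, hgN, hg⟩ := SetLike.exists_of_lt (Group.normalizerCondition_of_isNilpotent _ hlt)
    refine hg (hnorm g.1 g.2 fun u hu => ?_)
    exact Subgroup.mem_subgroupOf.1 ((Subgroup.mem_normalizer_iff.1 hgN ⟨u, hS hu⟩).1 (Subgroup.mem_subgroupOf.2 hu))
  exact ⟨S, 4, by norm_num,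
    ⟨(MulEquiv.subgroupCongr (le_antisymm hle hS)).trans (MonoidHom.ofInjective hρ).symm⟩⟩

end CfsgLib.ResThree.Tv
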