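import Cfsg.Agent.Lib.MaxSub.ResThree.Tv.Small.Lines
import Cfsg.Agent.Lib.MaxSub.ResThree.Tv.Small.Corner
import Cfsg.Agent.Lib.MaxSub.ResThree.NoTv.Main
import Cfsg.Agent.S0204

/-!
Root groups of size two: the Sylow two-subgroups are dihedral.
-/

set_option autoImplicit false
set_option linter.unusedSectionVars false
set_option linter.style.haveILetI false

namespace CfsgLib.ResThree.Tv

open Matrix

variable {F : Type*} [Field F]
variable {P : Subgroup (Matrix.GeneralLinearGroup (Fin 3) F)}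

/-- Inverse transpose. -/
def dualHom : Matrix.GeneralLinearGroup (Fin 3) F →* Matrix.GeneralLinearGroup (Fin 3) F where
  toFun g := ⟨((g⁻¹ : Matrix.GeneralLinearGroup (Fin 3) F).1)ᵀ, g.1ᵀ,
    by rw [← transpose_mul, Units.mul_inv, transpose_one], by rw [← transpose_mul, Units.inv_mul, transpose_one]⟩
  map_one' := Units.ext (by
    show (((1⁻¹ : Matrix.GeneralLinearGroup (Fin 3) F)).1)ᵀ = _
    rw [inv_one, Units.val_one, transpose_one])
  map_mul' g h := by
    refine Units.ext ?_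
    show (((g * h)⁻¹ : Matrix.GeneralLinearGroup (Fin 3) F).1)ᵀ = _
    rw [_root_.mul_inv_rev, Units.val_mul, transpose_mul]
    rfl

theorem dualHom_val (g : Matrix.GeneralLinearGroup (Fin 3) F) :
    (dualHom g).1 = ((g⁻¹ : Matrix.GeneralLinearGroup (Fin 3) F).1)ᵀ := rfl

theorem dualHom_dualHom (g : Matrix.GeneralLinearGroup (Fin 3) F) : dualHom (dualHom g) = g := by
  refine Units.ext ?_
  rw [dualHom_val]
  show ((g.1)ᵀ)ᵀ = _
  rw [transpose_transpose]

theorem Tiny.mem_dual (hT : Tiny P) {a b : Fin 3 → F} : Mem (P.map dualHom) a b ↔ Mem P b a := by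
  have inv : ∀ g ∈ P, ∀ c φ : Fin 3 → F, g.1 = 1 + vecMulVec c φ →
      (g⁻¹ : Matrix.GeneralLinearGroup (Fin 3) F) = g := by
    intro g hg c φ e
    refine inv_eq_of_mul_eq_one_right (Units.ext ?_)
    rw [Units.val_mul, e, one_add_mul (hT.dot ⟨g, hg, e⟩), Units.val_one, add_assoc,
      ← two_smul F (vecMulVec c φ), hT.two, zero_smul, add_zero]
  constructor
  · rintro ⟨_, ⟨g, hg, rfl⟩, e⟩
    rw [dualHom_val, ← transpose_transpose (1 + vecMulVec a b), transpose_inj, transpose_add, transpose_one,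
      transpose_vecMulVec] at e
    have hg' := P.inv_mem hg
    refine ⟨g⁻¹, hg', e⟩
  · rintro ⟨g, hg, e⟩
    refine ⟨dualHom g, ⟨g, hg, rfl⟩, ?_⟩
    rw [dualHom_val, inv g hg b a e, e, transpose_add, transpose_one, transpose_vecMulVec]

theorem Tiny.root_dual (hT : Tiny P) {a b : Fin 3 → F} : Root (P.map dualHom) a b ↔ Root P b a := by
  simp only [Root, hT.mem_dual]
  tauto

variable [Fintype F]

/-- Root groups of size two make a tiny group. -/
theorem tiny_of_core (hP : Core P) (h2 : (2 : F) = 0) {c₀ φ₀ : Fin 3 → F} (h₀ : Root P c₀ φ₀)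
    (hs : ∀ c φ : Fin 3 → F, Root P c φ → ∀ t : F, Mem P (t • c) φ → t = 0 ∨ t = 1) : Tiny P where
  two := h2
  det := fun _ hg => hP.det_eq hg
  small := hs
  off a b := by
    classical
    set W := Submodule.span F ({a, b} : Set (Fin 3 → F))
    have hW : W ≠ ⊤ := by
      intro h
      have h1 := finrank_span_finset_le_card (R := F) ({a, b} : Finset (Fin 3 → F))
      rw [Finset.coe_insert, Finset.coe_singleton] at h1
      have h3 : Module.finrank F W = 3 := by rw [h, finrank_top, Module.finrank_fin_fun]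
      have h4 : ({a, b} : Finset (Fin 3 → F)).card ≤ 2 := Finset.card_le_two
      change Module.finrank F W ≤ _ at h1
      omega
    by_cases hu : W = ⊥
    · exact ⟨c₀, φ₀, h₀, fun hm => h₀.1 (by rwa [hu, Submodule.mem_bot] at hm)⟩
    · obtain ⟨u, hu, hu0⟩ := Submodule.exists_mem_ne_zero_of_ne_bot hu
      obtain ⟨g, hg, hg'⟩ := exists_centre_not_mem hP h₀ W hW hu hu0
      exact ⟨_, _, h₀.map hg, hg'⟩

theorem Tiny.dual (hT : Tiny P) (hP : Core P) {c₀ φ₀ : Fin 3 → F} (h₀ : Root P c₀ φ₀) :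
    Tiny (P.map dualHom) where
  two := hT.two
  det := by
    rintro _ ⟨g, hg, rfl⟩
    rw [dualHom_val, det_transpose]
    exact hP.det_eq (P.inv_mem hg)
  small c φ hr t hm := by
    rw [hT.mem_dual, ← mem_smul_iff] at hm
    exact hT.small φ c (hT.root_dual.1 hr) t hm
  off a b := by
    let L : (Fin 3 → F) →ₗ[F] (Fin 2 → F) := Matrix.mulVecLin (Matrix.of ![a, b])
    obtain ⟨n, hn, hn0⟩ := Submodule.exists_mem_ne_zero_of_ne_bot
      (LinearMap.ker_ne_bot_of_finrank_lt (f := L) (by simp))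
    have hn' : L n = 0 := hn
    have ha : a ⬝ᵥ n = 0 := congrFun hn' 0
    have hb : b ⬝ᵥ n = 0 := congrFun hn' 1
    obtain ⟨g, hg, hg'⟩ := exists_axis_ne hP h₀ hn0
    refine ⟨_, _, hT.root_dual.2 (h₀.map hg), fun hm => hg' ?_⟩
    obtain ⟨s, t, e⟩ := Submodule.mem_span_pair.1 hm
    rw [← e, add_dotProduct, smul_dotProduct, smul_dotProduct, ha, hb, smul_zero, smul_zero, add_zero]

/-- Two centres on one axis give a corner. -/
theorem Tiny.corner_of_centres (hT : Tiny P) (hP : Core P) {c c' φ : Fin 3 → F} (h : Root P c φ)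
    (h' : Root P c' φ) (hne : c' ≠ c) : Corner P := by
  obtain ⟨a, b, b', a', r1, r2, r3, hb, ha⟩ :=
    (hT.dual hP h).corner_of_axes (hT.root_dual.2 h) (hT.root_dual.2 h') hne
  exact ⟨b, a, a', b', hT.root_dual.1 r1, hT.root_dual.1 r3, hT.root_dual.1 r2, ha, hb⟩

/-- An involution in characteristic two is a transvection. -/
theorem root_of_involution (h2 : (2 : F) = 0) {g : Matrix.GeneralLinearGroup (Fin 3) F} (hg : g ∈ P)
    (hg2 : g * g = 1) (hg1 : g ≠ 1) : ∃ c φ : Fin 3 → F, Root P c φ ∧ g.1 = 1 + vecMulVec c φ := by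
  set N := g.1 - 1 with hN
  have hN2 : N * N = 0 := by
    have e : g.1 * g.1 = 1 := congrArg Units.val hg2
    have : g.1 + g.1 = 0 := by rw [← two_smul F g.1, h2, zero_smul]
    have one2 : (1 : Matrix (Fin 3) (Fin 3) F) + 1 = 0 := by
      rw [← two_smul F (1 : Matrix (Fin 3) (Fin 3) F), h2, zero_smul]
    rw [hN, sub_mul, mul_sub, mul_sub, e, mul_one, one_mul, mul_one]
    linear_combination (norm := abel) one2 - this
  have hN0 : N ≠ 0 := fun e => hg1 (Units.ext (by rw [Units.val_one]; exact sub_eq_zero.1 e))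
  let L := Matrix.toLin' N
  have hle : LinearMap.range L ≤ LinearMap.ker L := by
    rintro _ ⟨v, rfl⟩
    show N *ᵥ (N *ᵥ v) = 0
    rw [mulVec_mulVec, hN2, zero_mulVec]
  have hrk := L.finrank_range_add_finrank_ker
  have hmono := Submodule.finrank_mono hle
  rw [Module.finrank_fin_fun] at hrk
  obtain ⟨j₀, hj₀⟩ : ∃ j, N *ᵥ Pi.single j 1 ≠ 0 := by
    by_contra h
    push Not at h
    exact hN0 (Matrix.ext fun i j => by simpa using congrFun (h j) i)
  set c := N *ᵥ Pi.single j₀ 1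
  have hspan : Submodule.span F {c} = LinearMap.range L := by
    refine Submodule.eq_of_le_of_finrank_le ?_ (by rw [finrank_span_singleton hj₀]; omega)
    rw [Submodule.span_singleton_le_iff_mem]
    exact ⟨Pi.single j₀ 1, rfl⟩
  have hcol : ∀ j, ∃ t : F, t • c = N *ᵥ Pi.single j 1 := fun j =>
    Submodule.mem_span_singleton.1 (hspan ▸ ⟨Pi.single j 1, rfl⟩)
  choose φ hφ using hcol
  have e : g.1 = 1 + vecMulVec c φ := by
    rw [show g.1 = 1 + N by rw [hN]; abel]
    congr 1
    ext i j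
    have := congrFun (hφ j) i
    simp only [Pi.smul_apply, smul_eq_mul, mulVec_single, MulOpposite.smul_eq_mul_unop, MulOpposite.unop_op,
      mul_one, col_apply] at this
    rw [vecMulVec_apply, ← this, mul_comm]
  refine ⟨c, φ, ⟨hj₀, fun h0 => hg1 (Units.ext ?_), g, hg, e⟩, e⟩
  rw [e, h0]
  simp

/-- With root groups of size two a Sylow two-subgroup is dihedral. -/
theorem dihedralSylow_of_tiny (hP : Core P) (hT : Tiny P) : DihedralSylow P := by
  haveI := hP.simple
  have hnc : ¬ IsCyclic (P ⧸ (Cfsg.Geo.scalars (Fin 3) F).subgroupOf P) := fun h => hP.nonabelian (by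
    haveI := h
    exact IsCyclic.commutative)
  obtain ⟨E, hE⟩ := Cfsg.Agent.S0204.result hnc
  haveI := hE
  have hsq : ∀ x : E, x * x = 1 := fun x => IsKleinFour.mul_self x
  obtain ⟨x, y, hx, hy, hxy⟩ : ∃ x y : E, x ≠ 1 ∧ y ≠ 1 ∧ x ≠ y := by
    haveI := Fintype.ofFinite E
    classical
    have h4 : Fintype.card E = 4 := by rw [← Nat.card_eq_fintype_card]; exact hE.card_four
    obtain ⟨x, hx⟩ := Fintype.exists_ne_of_one_lt_card (by omega) (1 : E)
    obtain ⟨y, hy⟩ : ∃ y : E, y ∉ ({1, x} : Finset E) := by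
      by_contra hcon
      push Not at hcon
      have := Finset.card_le_card (s := (Finset.univ : Finset E)) (t := {1, x}) fun z _ => hcon z
      rw [Finset.card_univ, h4] at this
      have h2 : ({1, x} : Finset E).card ≤ 2 := Finset.card_le_two
      omega
    simp only [Finset.mem_insert, Finset.mem_singleton, not_or] at hy
    exact ⟨x, y, hx, hy.1, fun e => hy.2 e.symm⟩
  obtain ⟨a, ha, ha2⟩ := hP.lift_sq (x : P ⧸ _) (congrArg Subtype.val (hsq x))
  obtain ⟨b, hb, hb2⟩ := hP.lift_sq (y : P ⧸ _) (congrArg Subtype.val (hsq y))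
  have hab : (a : Matrix.GeneralLinearGroup (Fin 3) F) * b = (b : Matrix.GeneralLinearGroup (Fin 3) F) * a :=
    hP.comm_of_image ha2 (by
      rw [ha, hb]
      refine congrArg Subtype.val (show x * y = y * x from ?_)
      calc x * y = (x * y)⁻¹ := eq_inv_of_mul_eq_one_left (hsq _)
        _ = y * x := by rw [_root_.mul_inv_rev, inv_eq_of_mul_eq_one_right (hsq x), inv_eq_of_mul_eq_one_right (hsq y)])
  obtain ⟨c, φ, hr, ea⟩ := root_of_involution hT.two a.2 (coe_sq ha2)
    (coe_ne_one ha fun h => hx (Subtype.ext h))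
  obtain ⟨z, ψ, hr', eb⟩ := root_of_involution hT.two b.2 (coe_sq hb2)
    (coe_ne_one hb fun h => hy (Subtype.ext h))
  have hne : (vecMulVec c φ : Matrix (Fin 3) (Fin 3) F) ≠ vecMulVec z ψ := fun e => hxy (Subtype.ext (by
    rw [← ha, ← hb]
    exact congrArg _ (Subtype.ext (Units.ext (by rw [ea, eb, e])))))
  have hAB : vecMulVec c φ * vecMulVec z ψ = vecMulVec z ψ * vecMulVec c φ := by
    have h := congrArg Units.val hab
    rw [Units.val_mul, Units.val_mul, ea, eb, add_mul, mul_add, mul_add, add_mul, mul_add, mul_add] at h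
    simp only [one_mul, mul_one] at h
    linear_combination (norm := abel) h
  have hv : ∀ v, (φ ⬝ᵥ z * ψ ⬝ᵥ v) • c = (ψ ⬝ᵥ c * φ ⬝ᵥ v) • z := fun v => by
    have := congrArg (· *ᵥ v) hAB
    simp only [← mulVec_mulVec, vmv_mulVec, mulVec_smul, smul_smul] at this
    rwa [mul_comm (ψ ⬝ᵥ v), mul_comm (φ ⬝ᵥ v)] at this
  have hψz := hT.dot hr'.2.2
  have hφc := hT.dot hr.2.2
  have h12 : φ ⬝ᵥ z = 0 ∧ ψ ⬝ᵥ c = 0 := by
    have hor : ψ ⬝ᵥ c = 0 ∨ φ ⬝ᵥ z = 0 := by
      have := hv z
      rw [hψz, mul_zero, zero_smul] at this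
      rcases mul_eq_zero.1 ((smul_eq_zero.1 this.symm).resolve_right hr'.1) with h | h
      · exact Or.inl h
      · exact Or.inr h
    obtain ⟨v, hv1⟩ : ∃ v, ψ ⬝ᵥ v ≠ 0 := by
      by_contra h
      push Not at h
      exact hr'.2.1 (dotProduct_eq_zero _ h)
    obtain ⟨w, hw1⟩ : ∃ w, φ ⬝ᵥ w ≠ 0 := by
      by_contra h
      push Not at h
      exact hr.2.1 (dotProduct_eq_zero _ h)
    rcases hor with h | h
    · refine ⟨?_, h⟩
      have := hv v
      rw [h, zero_mul, zero_smul, smul_eq_zero] at this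
      exact (mul_eq_zero.1 (this.resolve_right hr.1)).resolve_right hv1
    · refine ⟨h, ?_⟩
      have := hv w
      rw [h, zero_mul, zero_smul, eq_comm, smul_eq_zero] at this
      exact (mul_eq_zero.1 (this.resolve_right hr'.1)).resolve_right hw1
  refine Corner.dihedral hT ?_
  by_cases hk : ∃ k : F, z = k • c
  · obtain ⟨k, hk⟩ := hk
    have hk0 : k ≠ 0 := fun e => hr'.1 (by rw [hk, e, zero_smul])
    refine hT.corner_of_axes hr (φ' := k • ψ)
      ⟨hr.1, smul_ne_zero hk0 hr'.2.1, by rw [← mem_smul_iff, ← hk]; exact hr'.2.2⟩ fun e => hne ?_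
    rw [hk, ← e, smul_vmv]
  · push Not at hk
    have hli : LinearIndependent F ![c, z] := (LinearIndependent.pair_iff' hr.1).2 fun t ht => hk t ht.symm
    obtain ⟨m, hm⟩ := prop_of_kills hli hr.2.1 hφc h12.1 h12.2 hψz
    have hm0 : m ≠ 0 := fun e => hr'.2.1 (by rw [hm, e, zero_smul])
    refine hT.corner_of_centres hP hr (c' := m • z)
      ⟨smul_ne_zero hm0 hr'.1, hr.2.1, by rw [mem_smul_iff, ← hm]; exact hr'.2.2⟩ fun e => hne ?_
    rw [← e, smul_vmv, hm]

end CfsgLib.ResThree.Tv
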