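import Cfsg.Agent.Lib.MaxSub.ResThree.Tv.Small.Pair

/-!
Root groups of size two: a centre with two axes lies on a corner.
-/

set_option autoImplicit false
set_option linter.unusedSectionVars false

namespace CfsgLib.ResThree.Tv

open Matrix

variable {F : Type*} [Field F] [Fintype F]
variable {P : Subgroup (Matrix.GeneralLinearGroup (Fin 3) F)} (hT : Tiny P)

local notation "G3" => Matrix.GeneralLinearGroup (Fin 3) F
local notation "V" => Fin 3 → F

include hT in
/-- Away from corners, the centres off a line through a centre with two axes lie on one further line. -/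
theorem Tiny.two_lines (hC : ¬ Corner P) {x φ φ' y ψ z ζ z' ζ' : Fin 3 → F} (hx : Root P x φ) (hx' : Root P x φ')
    (hne : φ' ≠ φ) (hy : Root P y ψ) (hxy : ∀ k : F, y ≠ k • x) (hz : Root P z ζ)
    (hzo : z ∉ Submodule.span F ({x, y} : Set (Fin 3 → F))) (hz' : Root P z' ζ')
    (hzo' : z' ∉ Submodule.span F ({x, y} : Set (Fin 3 → F))) :
    z' ∈ Submodule.span F ({x, z} : Set (Fin 3 → F)) := by
  classical
  obtain ⟨K, b, hb, hK3, hKcard, hval, hsurj, htor, -⟩ := hT.pair_data hC hx hx' hne hy hxy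
  haveI : CharP F 2 := CharTwo.of_one_ne_zero_of_two_eq_zero one_ne_zero hT.two
  haveI : Fintype K := Fintype.ofFinite _
  obtain ⟨du, hdu⟩ := IsCyclic.exists_generator (α := (K : Type _)ˣ)
  set d0 : F := ((du : K) : F) with hd0
  have hd0K : d0 ∈ K := (du : K).2
  have hd00 : d0 ≠ 0 := fun e => du.ne_zero (Subtype.ext e)
  have hgen : ∀ u ∈ K, u ≠ 0 → ∃ j : ℕ, u = d0 ^ j := by
    intro u hu hu0
    have hm := hdu (Units.mk0 (⟨u, hu⟩ : K) (fun e => hu0 (congrArg Subtype.val e)))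
    rw [← mem_powers_iff_mem_zpowers] at hm
    obtain ⟨j, hj⟩ := hm
    refine ⟨j, ?_⟩
    have := congrArg (fun w : (K : Type _)ˣ => ((w : K) : F)) hj
    simpa [hd0] using this.symm
  have hd01 : d0 ≠ 1 := by
    intro e
    have hinj : Function.Injective (fun s : K => decide ((s : F) = 0)) := by
      intro a c hac
      simp only [decide_eq_decide] at hac
      refine Subtype.ext ?_
      by_cases ha : (a : F) = 0
      · rw [ha, hac.1 ha]
      · obtain ⟨j, hj⟩ := hgen a a.2 ha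
        obtain ⟨j', hj'⟩ := hgen c c.2 (fun hc => ha (hac.2 hc))
        rw [hj, hj', e, one_pow, one_pow]
    have := Nat.card_le_card_of_injective _ hinj
    simp at this
    rw [Nat.card_eq_fintype_card] at hK3
    omega
  obtain ⟨g, hg, hgx, hgy, hgv⟩ := htor d0 hd0K hd00
  obtain ⟨s, t, hst⟩ := hgv z
  set n := z + (s / (1 - d0)) • x + (t / (1 - d0⁻¹)) • y with hn
  have e1 : (1 - d0) ≠ 0 := sub_ne_zero.2 (Ne.symm hd01)
  have e2 : (1 - d0⁻¹) ≠ 0 := sub_ne_zero.2 (fun e => hd01 (inv_eq_one.1 e.symm))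
  have hgn : g.1 *ᵥ n = n := by
    rw [hn, mulVec_add, mulVec_add, mulVec_smul, mulVec_smul, hst, hgx, hgy, smul_smul, smul_smul]
    have a1 : s + s / (1 - d0) * d0 = s / (1 - d0) := by field_simp; ring
    have a2 : t + t / (1 - d0⁻¹) * d0⁻¹ = t / (1 - d0⁻¹) := by
      rw [eq_div_iff e2, add_mul, mul_right_comm, div_mul_cancel₀ _ e2]; ring
    conv_rhs => rw [← a1, ← a2]
    module
  have hspan : ∀ a c : F, a • x + c • y ∈ Submodule.span F ({x, y} : Set V) := fun a c =>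
    Submodule.mem_span_pair.2 ⟨a, c, rfl⟩
  have hli : LinearIndependent F ![x, y, n] := by
    rw [Fintype.linearIndependent_iff]
    intro r hr
    simp only [Fin.sum_univ_three, Matrix.cons_val_zero, Matrix.cons_val_one, Matrix.cons_val, hn] at hr
    have r2 : r 2 = 0 := by
      by_contra h
      refine hzo ((Submodule.smul_mem_iff _ h).1 ?_)
      rw [show r 2 • z = -((r 0 + r 2 * (s / (1 - d0))) • x + (r 1 + r 2 * (t / (1 - d0⁻¹))) • y) from by
        rw [eq_neg_iff_add_eq_zero, ← hr]; module]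
      exact Submodule.neg_mem _ (hspan _ _)
    rw [r2, zero_smul, add_zero] at hr
    obtain ⟨r0, r1⟩ := LinearIndependent.pair_iff.1
      ((LinearIndependent.pair_iff' hx.1).2 fun k hk => hxy k hk.symm) _ _ hr
    intro i
    fin_cases i
    · exact r0
    · exact r1
    · exact r2
  let B := basisOfLinearIndependentOfCardEqFinrank hli (by simp)
  have hexp : ∀ v : V, v = B.repr v 0 • x + B.repr v 1 • y + B.repr v 2 • n := fun v => by
    conv_lhs => rw [← B.sum_repr v]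
    simp [B, Fin.sum_univ_three]
  obtain ⟨η1, hη1, hη1y⟩ := hsurj 1 K.one_mem
  rw [one_mul] at hη1y
  set f1 := η1 ⬝ᵥ n with hf1
  have hiter : ∀ j : ℕ, ∃ η : V, Mem P x η ∧ η ⬝ᵥ y = (d0 ^ j) ^ 2 * b ∧ η ⬝ᵥ n = d0 ^ j * f1 := by
    intro j
    induction j with
    | zero => exact ⟨η1, hη1, by simp [hη1y], by simp [hf1]⟩
    | succ j ih =>
      obtain ⟨η, hη, hy', hn'⟩ := ih
      have hm := hη.map hg
      rw [hgx, mem_smul_iff] at hm
      refine ⟨_, hm, ?_, ?_⟩
      · have e : (η ᵥ* (g⁻¹ : G3).1) ⬝ᵥ (g.1 *ᵥ y) = η ⬝ᵥ y := vecMul_map_dot η y g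
        rw [hgy, dotProduct_smul, smul_eq_mul] at e
        rw [smul_dotProduct, smul_eq_mul]
        have e' : (η ᵥ* (g⁻¹ : G3).1) ⬝ᵥ y = d0 * η ⬝ᵥ y := by rw [← e, mul_inv_cancel_left₀ hd00]
        rw [e', hy', pow_succ]
        ring
      · have e : (η ᵥ* (g⁻¹ : G3).1) ⬝ᵥ (g.1 *ᵥ n) = η ⬝ᵥ n := vecMul_map_dot η n g
        rw [hgn] at e
        rw [smul_dotProduct, smul_eq_mul, e, hn', pow_succ]
        ring
  have hu : ∀ u ∈ K, ∃ η : V, Mem P x η ∧ η ⬝ᵥ y = u ^ 2 * b ∧ η ⬝ᵥ n = u * f1 := by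
    intro u hu
    rcases eq_or_ne u 0 with rfl | hu0
    · exact ⟨0, mem_zero_axis x, by simp, by simp⟩
    · obtain ⟨j, rfl⟩ := hgen u hu hu0
      exact hiter j
  have hnz : ∀ η : V, Mem P x η → η ≠ 0 → ∀ w ω, Root P w ω → (∀ k : F, w ≠ k • x) → η ⬝ᵥ w ≠ 0 := by
    intro η hη hη0 w ω hw hwx
    by_cases he : φ = η
    · subst he; exact (hT.opposite hC hx hx' hne hw hwx).1
    · exact (hT.opposite hC ⟨hx.1, hη0, hη⟩ hx he hw hwx).1
  have hall : ∀ η : V, Mem P x η → ∃ u ∈ K, η ⬝ᵥ y = u ^ 2 * b ∧ η ⬝ᵥ n = u * f1 := by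
    intro η hη
    haveI : CharP K 2 := CharTwo.of_one_ne_zero_of_two_eq_zero one_ne_zero (Subtype.ext hT.two)
    obtain ⟨u, hu2⟩ := FiniteField.isSquare_of_char_two (ringChar.eq K 2) (⟨_, hval η hη⟩ : K)
    have hu2' : η ⬝ᵥ y / b = (u : F) * u := congrArg Subtype.val hu2
    obtain ⟨η', hη', hy', hn'⟩ := hu u u.2
    refine ⟨u, u.2, by rw [sq, ← hu2', div_mul_cancel₀ _ hb], ?_⟩
    suffices he : η + η' = 0 by
      rw [eq_neg_of_add_eq_zero_left he, hT.neg, hn']
    by_contra he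
    refine hnz _ (hT.add_axis hη hη') he y ψ hy hxy ?_
    rw [add_dotProduct, hy', sq, ← hu2', div_mul_cancel₀ _ hb, ← two_mul, hT.two, zero_mul]
  have hf0 : f1 ≠ 0 := by
    intro hf
    obtain ⟨u, -, huy, hun⟩ := hall φ hx.2.2
    obtain ⟨u', -, huy', hun'⟩ := hall φ' hx'.2.2
    have hu0 : φ ⬝ᵥ y ≠ 0 := hnz φ hx.2.2 hx.2.1 y ψ hy hxy
    refine one_ne_zero (α := F) ((LinearIndependent.pair_iff.1 (hT.axes_indep hx hx' hne)
      (-(φ' ⬝ᵥ y / φ ⬝ᵥ y)) 1 ?_).2)
    refine dotProduct_eq_zero _ fun v => ?_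
    rw [hexp v]
    simp only [dotProduct_add, dotProduct_smul, add_dotProduct, smul_dotProduct, smul_eq_mul,
      hT.dot hx.2.2, hT.dot hx'.2.2, hun, hun', hf, mul_zero, add_zero, one_mul, zero_add]
    field_simp
    ring
  have key : ∀ w ω : V, Root P w ω → w ∉ Submodule.span F ({x, y} : Set V) →
      B.repr w 1 = 0 ∧ B.repr w 2 ≠ 0 := by
    intro w ω hw hwo
    have hw2 : B.repr w 2 ≠ 0 := fun e => hwo (by
      rw [hexp w, e, zero_smul, add_zero]; exact hspan _ _)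
    refine ⟨?_, hw2⟩
    have hwx : ∀ k : F, w ≠ k • x := fun k e => hwo (e ▸ Submodule.smul_mem _ k (Submodule.subset_span (by simp)))
    obtain ⟨K', δ, hδ, -, hK'card, hval', -⟩ := hT.pair_data hC hx hx' hne hw hwx
    have hKK : K' = K := CfsgLib.PSL2Max.subfield_eq_of_card (hK'card.trans hKcard.symm)
    rw [hKK] at hval'
    by_contra hw1
    set a := B.repr w 1 * b
    have ha : a ≠ 0 := mul_ne_zero hw1 hb
    set s := B.repr w 2 * f1 / a
    have hs : s ≠ 0 := div_ne_zero (mul_ne_zero hw2 hf0) ha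
    have hform : ∀ u ∈ K, u ≠ 0 → a * (u ^ 2 + s * u) / δ ∈ K ∧ u ^ 2 + s * u ≠ 0 := by
      intro u huK hu0
      obtain ⟨η, hη, hy', hn'⟩ := hu u huK
      have hη0 : η ≠ 0 := fun e => by
        rw [e, zero_dotProduct] at hy'
        exact mul_ne_zero (pow_ne_zero 2 hu0) hb hy'.symm
      have e : η ⬝ᵥ w = a * (u ^ 2 + s * u) := by
        rw [mul_add, ← mul_assoc a s, mul_div_cancel₀ _ ha]
        conv_lhs => rw [hexp w]
        simp only [dotProduct_add, dotProduct_smul, smul_eq_mul, hT.dot hη, hy', hn']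
        ring
      refine ⟨e ▸ hval' η hη, fun e0 => hnz η hη hη0 w ω hw hwx ?_⟩
      rw [e, e0, mul_zero]
    obtain ⟨h1K, h10⟩ := hform 1 K.one_mem one_ne_zero
    obtain ⟨hdK, -⟩ := hform d0 hd0K hd00
    have hsK : s ∉ K := fun hsK => (hform s hsK hs).2 (by rw [sq, ← two_mul, hT.two, zero_mul])
    set k := (a * (d0 ^ 2 + s * d0) / δ) / (a * (1 ^ 2 + s * 1) / δ) with hk
    have hkK : k ∈ K := K.div_mem hdK h1K
    have hrel : d0 ^ 2 + s * d0 = k * (1 + s) := by
      rw [one_pow, mul_one] at h10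
      rw [hk, one_pow, mul_one, div_div_div_cancel_right₀ hδ, mul_div_mul_left _ _ ha, div_mul_cancel₀ _ h10]
    by_cases hkd : k = d0
    · rw [hkd] at hrel
      refine hd01 (mul_left_cancel₀ hd00 ?_)
      linear_combination hrel
    · refine hsK ?_
      have : s = (d0 ^ 2 - k) / (k - d0) := by
        rw [eq_div_iff (sub_ne_zero.2 hkd)]; linear_combination -hrel
      rw [this]
      exact K.div_mem (K.sub_mem (K.pow_mem hd0K 2) hkK) (K.sub_mem hkK hd0K)
  obtain ⟨za, zc⟩ := key z ζ hz hzo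
  obtain ⟨zb, -⟩ := key z' ζ' hz' hzo'
  have ez := hexp z
  rw [za, zero_smul, add_zero] at ez
  have ez' := hexp z'
  rw [zb, zero_smul, add_zero] at ez'
  generalize B.repr z 0 = p, B.repr z 2 = r at ez zc
  generalize B.repr z' 0 = p', B.repr z' 2 = r' at ez'
  clear_value n
  refine Submodule.mem_span_pair.2 ⟨p' - r' / r * p, r' / r, ?_⟩
  rw [ez', ez, smul_add, smul_smul, smul_smul, div_mul_cancel₀ _ zc]
  module

include hT in
/-- A centre with two axes gives a corner. -/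
theorem Tiny.corner_of_axes {x φ φ' : Fin 3 → F} (hx : Root P x φ) (hx' : Root P x φ') (hne : φ' ≠ φ) :
    Corner P := by
  by_contra hC
  obtain ⟨y, ψ, hy, hyo⟩ := hT.off x x
  have hxy : ∀ k : F, y ≠ k • x := fun k e => hyo (e ▸ Submodule.smul_mem _ k (Submodule.subset_span (by simp)))
  obtain ⟨z, ζ, hz, hzo⟩ := hT.off x y
  obtain ⟨-, -, -, -, -, -, -, -, ψ', hψ', hψne⟩ := hT.pair_data hC hx hx' hne hy hxy
  have hyx : ∀ k : F, x ≠ k • y := by
    intro k e
    rcases eq_or_ne k 0 with rfl | hk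
    · exact hx.1 (by rw [e, zero_smul])
    · exact hxy k⁻¹ (by rw [e, smul_smul, inv_mul_cancel₀ hk, one_smul])
  have hzx : ∀ k : F, z ≠ k • x := fun k e => hzo (e ▸ Submodule.smul_mem _ k (Submodule.subset_span (by simp)))
  have hφz := (hT.opposite hC hx hx' hne hz hzx).1
  obtain ⟨g, hg, eg⟩ := hx.2.2
  have hz2 := hz.map hg
  rw [eg, one_add_mulVec] at hz2
  have hswap : Submodule.span F ({y, x} : Set V) = Submodule.span F ({x, y} : Set V) := by
    rw [Set.pair_comm]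
  have hmem := hT.two_lines hC hy hψ' hψne hx hyx hz (by rw [hswap]; exact hzo) hz2 (by
    rw [hswap]
    intro hm
    exact hzo ((Submodule.add_mem_iff_left _ (Submodule.smul_mem _ _ (Submodule.subset_span (by simp)))).1 hm))
  obtain ⟨α, β, hαβ⟩ := Submodule.mem_span_pair.1 hmem
  have hx0 : (φ ⬝ᵥ z) • x = α • y + (β - 1) • z := by
    rw [sub_smul, one_smul, ← add_sub_assoc, hαβ, add_sub_cancel_left]
  by_cases hβ : β = 1
  · rw [hβ, sub_self, zero_smul, add_zero] at hx0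
    refine hyx ((φ ⬝ᵥ z)⁻¹ * α) ?_
    rw [← smul_smul, ← hx0, smul_smul, inv_mul_cancel₀ hφz, one_smul]
  · refine hzo ((Submodule.smul_mem_iff _ (sub_ne_zero.2 hβ)).1 ?_)
    rw [show (β - 1) • z = (φ ⬝ᵥ z) • x + (-α) • y from by rw [hx0]; module]
    exact Submodule.mem_span_pair.2 ⟨_, _, rfl⟩

end CfsgLib.ResThree.Tv
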