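import Cfsg.Agent.Lib.MaxSub.ResThree.Tv.CaseL

/-!
Root groups of size two in characteristic two: the pair group of a centre with two axes.
-/

set_option autoImplicit false
set_option linter.unusedSectionVars false

namespace CfsgLib.ResThree.Tv

open Matrix CfsgLib.Dickson CfsgLib.DicksonFull

variable {F : Type*} [Field F]
variable {P : Subgroup (Matrix.GeneralLinearGroup (Fin 3) F)}

local notation "G3" => Matrix.GeneralLinearGroup (Fin 3) F
local notation "V" => Fin 3 → F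
local notation "M3" => Matrix (Fin 3) (Fin 3) F
local notation "SL" => Matrix.SpecialLinearGroup (Fin 2) F

/-- Root groups of size two, characteristic two, no invariant point or line. -/
structure Tiny (P : Subgroup (Matrix.GeneralLinearGroup (Fin 3) F)) : Prop where
  two : (2 : F) = 0
  det : ∀ g ∈ P, g.1.det = 1
  small : ∀ c φ : Fin 3 → F, Root P c φ → ∀ t : F, Mem P (t • c) φ → t = 0 ∨ t = 1
  off : ∀ a b : Fin 3 → F, ∃ w χ : Fin 3 → F, Root P w χ ∧ w ∉ Submodule.span F ({a, b} : Set (Fin 3 → F))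

/-- Two axes at one centre and two centres on one of them. -/
def Corner (P : Subgroup (Matrix.GeneralLinearGroup (Fin 3) F)) : Prop :=
  ∃ c φ φ' c' : Fin 3 → F, Root P c φ ∧ Root P c φ' ∧ Root P c' φ ∧ φ' ≠ φ ∧ c' ≠ c

variable (hT : Tiny P)

include hT in
theorem Tiny.neg (v : Fin 3 → F) : -v = v := by
  rw [neg_eq_iff_add_eq_zero, ← two_smul F v, hT.two, zero_smul]

include hT in
theorem Tiny.negF (a : F) : -a = a := by
  rw [neg_eq_iff_add_eq_zero, ← two_mul, hT.two, zero_mul]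

include hT in
theorem Tiny.dot {c φ : Fin 3 → F} (h : Mem P c φ) : φ ⬝ᵥ c = 0 := by
  obtain ⟨g, hg, e⟩ := h
  have hd := hT.det g hg
  rw [e, vecMulVec_eq Unit, det_one_add_replicateCol_mul_replicateRow] at hd
  exact add_left_cancel (hd.trans (add_zero 1).symm)

include hT in
theorem Tiny.add_centre {c c' φ : Fin 3 → F} (h : Mem P c φ) (h' : Mem P c' φ) : Mem P (c + c') φ := by
  have h0 := hT.dot h'
  obtain ⟨g, hg, e⟩ := h
  obtain ⟨g', hg', e'⟩ := h'
  exact ⟨g * g', P.mul_mem hg hg', by rw [Units.val_mul, e, e', one_add_mul h0, add_vecMulVec, add_assoc]⟩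

include hT in
theorem Tiny.add_axis {c φ φ' : Fin 3 → F} (h : Mem P c φ) (h' : Mem P c φ') : Mem P c (φ + φ') := by
  have h0 := hT.dot h
  obtain ⟨g, hg, e⟩ := h
  obtain ⟨g', hg', e'⟩ := h'
  exact ⟨g * g', P.mul_mem hg hg', by rw [Units.val_mul, e, e', one_add_mul h0, vecMulVec_add, add_assoc]⟩

include hT in
theorem Tiny.conj {c φ y ψ : Fin 3 → F} (h : Mem P c φ) (h' : Mem P y ψ) :
    Mem P (y + (φ ⬝ᵥ y) • c) (ψ + (ψ ⬝ᵥ c) • φ) := by
  have h0 := hT.dot h
  obtain ⟨g, hg, e⟩ := h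
  have hinv : (g⁻¹ : G3) = g := by
    refine inv_eq_of_mul_eq_one_right (Units.ext ?_)
    rw [Units.val_mul, e, one_add_mul h0, Units.val_one, add_assoc, ← two_smul F (vecMulVec c φ), hT.two,
      zero_smul, add_zero]
  have := h'.map hg
  rwa [hinv, e, one_add_mulVec, vecMul_one_add] at this

include hT in
theorem Tiny.eq_one {c φ : Fin 3 → F} (h : Root P c φ) {t : F} (ht : t ≠ 0) (hm : Mem P (t • c) φ) : t = 1 :=
  (hT.small c φ h t hm).resolve_left ht

include hT in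
/-- Two axes at a centre are independent. -/
theorem Tiny.axes_indep {c φ φ' : Fin 3 → F} (h : Root P c φ) (h' : Root P c φ') (hne : φ' ≠ φ) :
    LinearIndependent F ![φ, φ'] := by
  refine (LinearIndependent.pair_iff' h.2.1).2 fun t ht => hne ?_
  have ht0 : t ≠ 0 := fun e => h'.2.1 (by rw [← ht, e, zero_smul])
  have := hT.eq_one h ht0 (by rw [mem_smul_iff, ht]; exact h'.2.2)
  rw [← ht, this, one_smul]

include hT in
/-- Away from corners, another centre is opposite to every axis at a centre with two axes. -/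
theorem Tiny.opposite (hC : ¬ Corner P) {x φ φ' y ψ : Fin 3 → F} (h : Root P x φ) (h' : Root P x φ')
    (hne : φ' ≠ φ) (hy : Root P y ψ) (hxy : ∀ k : F, y ≠ k • x) : φ ⬝ᵥ y ≠ 0 ∧ ψ ⬝ᵥ x ≠ 0 := by
  have hd := hT.dot hy.2.2
  have hφy : φ ⬝ᵥ y ≠ 0 := by
    intro e
    refine hC ?_
    by_cases hψ : ψ ⬝ᵥ x = 0
    · have hli : LinearIndependent F ![x, y] := (LinearIndependent.pair_iff' h.1).2 fun t ht => hxy t ht.symm
      obtain ⟨m, hm⟩ := prop_of_kills hli h.2.1 (hT.dot h.2.2) e hψ hd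
      have hm0 : m ≠ 0 := fun e0 => hy.2.1 (by rw [hm, e0, zero_smul])
      refine ⟨x, φ, φ', m • y, h, h', ⟨smul_ne_zero hm0 hy.1, h.2.1, ?_⟩, hne, fun e0 => ?_⟩
      · rw [mem_smul_iff, ← hm]; exact hy.2.2
      · exact hxy m⁻¹ (by rw [← e0, smul_smul, inv_mul_cancel₀ hm0, one_smul])
    · have hm := hT.conj hy.2.2 h.2.2
      rw [e, zero_smul, add_zero] at hm
      refine ⟨x, φ, φ', x + (ψ ⬝ᵥ x) • y, h, h', ⟨fun e0 => ?_, h.2.1, hm⟩, hne, fun e0 => ?_⟩
      · refine hxy (-(ψ ⬝ᵥ x)⁻¹) ?_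
        rw [neg_smul, ← smul_neg, ← eq_neg_of_add_eq_zero_right e0, smul_smul, inv_mul_cancel₀ hψ, one_smul]
      · exact smul_ne_zero hψ hy.1 (add_eq_left.1 e0)
  refine ⟨hφy, fun e => ?_⟩
  have hm := hT.conj hy.2.2 h.2.2
  rw [e, zero_smul, add_zero] at hm
  have hsum := hT.add_axis h.2.2 hm
  rw [← add_assoc, ← two_smul F φ, hT.two, zero_smul, zero_add] at hsum
  have h2 : Root P x ((φ ⬝ᵥ y) • ψ) := ⟨h.1, smul_ne_zero hφy hy.2.1, hsum⟩
  refine hC ⟨x, (φ ⬝ᵥ y) • ψ, φ, (φ ⬝ᵥ y)⁻¹ • y, h2, h, root_scale' hy hφy, fun e0 => ?_, fun e0 => ?_⟩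
  · have h1 := congrArg (· ⬝ᵥ y) e0
    simp only [smul_dotProduct, hd, smul_zero] at h1
    exact hφy h1
  · refine hxy (φ ⬝ᵥ y) ?_
    rw [← e0, smul_smul, mul_inv_cancel₀ hφy, one_smul]
where
  root_scale' {y ψ : Fin 3 → F} (h : Root P y ψ) {a : F} (ha : a ≠ 0) : Root P (a⁻¹ • y) (a • ψ) := by
    refine ⟨smul_ne_zero (inv_ne_zero ha) h.1, smul_ne_zero ha h.2.1, ?_⟩
    rw [mem_smul_iff, smul_smul, inv_mul_cancel₀ ha, one_smul]
    exact h.2.2

theorem coords_mul {e d : Fin 3 → Fin 3 → F} (h : ∀ i j, d i ⬝ᵥ e j = if i = j then 1 else 0)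
    (g g' : Matrix (Fin 3) (Fin 3) F) : coords e d (g * g') = coords e d g * coords e d g' := by
  simp only [coords, Matrix.mul_assoc]
  rw [← Matrix.mul_assoc (Matrix.of e)ᵀ (Matrix.of d), dual_mul h, Matrix.one_mul]

theorem coords_one {e d : Fin 3 → Fin 3 → F} (h : ∀ i j, d i ⬝ᵥ e j = if i = j then 1 else 0) :
    coords e d (1 : Matrix (Fin 3) (Fin 3) F) = 1 := by
  ext i j
  rw [coords_apply, one_mulVec, h, Matrix.one_apply]

theorem coords_inj {e d : Fin 3 → Fin 3 → F} (h : ∀ i j, d i ⬝ᵥ e j = if i = j then 1 else 0)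
    {g g' : Matrix (Fin 3) (Fin 3) F} (he : coords e d g = coords e d g') : g = g' := by
  have hd := dual_mul h
  have hd' : Matrix.of d * (Matrix.of e)ᵀ = 1 := mul_eq_one_comm.1 hd
  have := congrArg (fun M => (Matrix.of e)ᵀ * M * Matrix.of d) he
  simp only [coords, ← Matrix.mul_assoc, hd, Matrix.one_mul] at this
  simpa only [Matrix.mul_assoc, hd, Matrix.mul_one] using this

/-- A lift of a two by two matrix in a basis. -/
def block (A : Matrix (Fin 2) (Fin 2) F) (v0 v1 : F) : Matrix (Fin 3) (Fin 3) F :=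
  !![A 0 0, A 0 1, v0; A 1 0, A 1 1, v1; 0, 0, 1]

theorem block_mul (A B : Matrix (Fin 2) (Fin 2) F) (a0 a1 b0 b1 : F) :
    block A a0 a1 * block B b0 b1 =
      block (A * B) (A 0 0 * b0 + A 0 1 * b1 + a0) (A 1 0 * b0 + A 1 1 * b1 + a1) := by
  ext i j
  fin_cases i <;> fin_cases j <;> simp [block, Matrix.mul_apply, Fin.sum_univ_three, Fin.sum_univ_two]

/-- The two by two matrices lifting into `P`. -/
def pairGroup [Finite F] {e d : Fin 3 → Fin 3 → F} (h : ∀ i j, d i ⬝ᵥ e j = if i = j then 1 else 0)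
    (P : Subgroup (Matrix.GeneralLinearGroup (Fin 3) F)) : Subgroup (Matrix.SpecialLinearGroup (Fin 2) F) :=
  letI S : Submonoid (Matrix.SpecialLinearGroup (Fin 2) F) :=
    { carrier := {A | ∃ g ∈ P, ∃ v0 v1 : F, coords e d g.1 = block A.1 v0 v1}
      one_mem' := ⟨1, P.one_mem, 0, 0, by
        rw [Units.val_one, coords_one h]
        ext i j
        fin_cases i <;> fin_cases j <;> simp [block]⟩
      mul_mem' := by
        rintro A B ⟨g, hg, a0, a1, ha⟩ ⟨k, hk, b0, b1, hb⟩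
        refine ⟨g * k, P.mul_mem hg hk, A.1 0 0 * b0 + A.1 0 1 * b1 + a0, A.1 1 0 * b0 + A.1 1 1 * b1 + a1, ?_⟩
        rw [Units.val_mul, coords_mul h, ha, hb, block_mul]
        rfl }
  { S with
    inv_mem' := fun {A} hA => by
      classical
      haveI : Fintype F := Fintype.ofFinite F
      have ho := orderOf_pos A
      have e : A⁻¹ = A ^ (orderOf A - 1) := by
        refine inv_eq_of_mul_eq_one_right ?_
        rw [← pow_succ', Nat.sub_add_cancel ho, pow_orderOf_eq_one]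
      rw [e]
      exact S.pow_mem hA _ }

theorem mem_pairGroup [Finite F] {e d : Fin 3 → Fin 3 → F} {h : ∀ i j, d i ⬝ᵥ e j = if i = j then 1 else 0}
    {A : Matrix.SpecialLinearGroup (Fin 2) F} :
    A ∈ pairGroup h P ↔ ∃ g ∈ P, ∃ v0 v1 : F, coords e d g.1 = block A.1 v0 v1 := Iff.rfl

theorem root_scale₂ {y ψ : Fin 3 → F} (h : Root P y ψ) {a : F} (ha : a ≠ 0) :
    Root P (a⁻¹ • y) (a • ψ) := by
  refine ⟨smul_ne_zero (inv_ne_zero ha) h.1, smul_ne_zero ha h.2.1, ?_⟩
  rw [mem_smul_iff, smul_smul, inv_mul_cancel₀ ha, one_smul]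
  exact h.2.2

variable [Fintype F]

include hT in
/-- The pair group of a centre with two axes and another centre: a field of parameters. -/
theorem Tiny.pair_data (hC : ¬ Corner P) {x φ φ' y ψ : Fin 3 → F} (hx : Root P x φ) (hx' : Root P x φ')
    (hne : φ' ≠ φ) (hy : Root P y ψ) (hxy : ∀ k : F, y ≠ k • x) :
    ∃ (K : Subfield F) (b : F), b ≠ 0 ∧ 3 ≤ Nat.card K ∧ Nat.card K = Nat.card {η : Fin 3 → F // Mem P x η} ∧
      (∀ η : Fin 3 → F, Mem P x η → η ⬝ᵥ y / b ∈ K) ∧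
      (∀ k ∈ K, ∃ η : Fin 3 → F, Mem P x η ∧ η ⬝ᵥ y = k * b) ∧
      (∀ d ∈ K, d ≠ 0 → ∃ h ∈ P, h.1 *ᵥ x = d • x ∧ h.1 *ᵥ y = d⁻¹ • y ∧
        ∀ v : Fin 3 → F, ∃ s t : F, h.1 *ᵥ v = v + s • x + t • y) ∧
      (∃ ψ' : Fin 3 → F, Root P y ψ' ∧ ψ' ≠ ψ) := by
  classical
  haveI : CharP F 2 := CharTwo.of_one_ne_zero_of_two_eq_zero one_ne_zero hT.two
  haveI : Fact (Nat.Prime 2) := ⟨Nat.prime_two⟩
  obtain ⟨hφy, hψx⟩ := hT.opposite hC hx hx' hne hy hxy
  have d1 := hT.dot hx.2.2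
  have d1' := hT.dot hx'.2.2
  have d2 := hT.dot hy.2.2
  obtain ⟨n, hn, n1, n2, hdec⟩ := pair_frame d1 d2 hφy hψx
  -- a functional killing both centres
  set ω : V := φ' + (-(φ' ⬝ᵥ y / φ ⬝ᵥ y)) • φ with hω
  have hωx : ω ⬝ᵥ x = 0 := by rw [hω, add_dotProduct, smul_dotProduct, d1, d1', smul_zero, add_zero]
  have hωy : ω ⬝ᵥ y = 0 := by
    rw [hω, add_dotProduct, smul_dotProduct, smul_eq_mul, neg_mul, div_mul_cancel₀ _ hφy, add_neg_cancel]
  have hω0 : ω ≠ 0 := fun e => by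
    refine one_ne_zero (α := F) ((LinearIndependent.pair_iff.1 (hT.axes_indep hx hx' hne)
      (-(φ' ⬝ᵥ y / φ ⬝ᵥ y)) 1 ?_).2)
    rw [one_smul, add_comm]; exact e
  have hωn : ω ⬝ᵥ n ≠ 0 := by
    intro e
    refine hω0 (dotProduct_eq_zero _ fun v => ?_)
    obtain ⟨r, hr⟩ := hdec v
    rw [hr]
    simp [dotProduct_add, dotProduct_smul, hωx, hωy, e]
  let e : Fin 3 → Fin 3 → F := ![x, y, n]
  let d : Fin 3 → Fin 3 → F := ![(ψ ⬝ᵥ x)⁻¹ • ψ, (φ ⬝ᵥ y)⁻¹ • φ, (ω ⬝ᵥ n)⁻¹ • ω]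
  have hdual : ∀ i j, d i ⬝ᵥ e j = if i = j then 1 else 0 := by
    intro i j
    fin_cases i <;> fin_cases j <;>
      simp [e, d, smul_dotProduct, d1, d2, hωx, hωy, n1, n2, hφy, hψx, hωn]
  have hexp : ∀ v : V, v = (d 0 ⬝ᵥ v) • x + (d 1 ⬝ᵥ v) • y + (d 2 ⬝ᵥ v) • n := by
    intro v
    conv_lhs => rw [← one_mulVec v, ← dual_mul hdual, ← mulVec_mulVec]
    ext k
    simp [e, Matrix.mulVec, dotProduct, Fin.sum_univ_three]
    ring
  set G := pairGroup hdual P with hG
  -- lifts of the identity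
  have kern : ∀ g ∈ P, ∀ v0 v1 : F, coords e d g.1 = block 1 v0 v1 → g = 1 := by
    intro g hg v0 v1 hc
    have hgM : g.1 = 1 + vecMulVec (v0 • x + v1 • y) (d 2) := by
      refine coords_inj hdual ?_
      rw [hc]
      ext i j
      rw [coords_apply, one_add_mulVec, dotProduct_add, dotProduct_smul, hdual, hdual, dotProduct_add,
        dotProduct_smul, dotProduct_smul, show d i ⬝ᵥ x = if i = 0 then 1 else 0 from hdual i 0,
        show d i ⬝ᵥ y = if i = 1 then 1 else 0 from hdual i 1]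
      fin_cases i <;> fin_cases j <;> simp [block]
    have hm : Mem P (v0 • x + v1 • y) (d 2) := ⟨g, hg, hgM⟩
    by_contra hne1
    have hv : v0 • x + v1 • y ≠ 0 := fun e0 => hne1 (Units.ext (by
      rw [hgM, e0]; simp))
    have hd2 : d 2 ≠ 0 := fun e0 => by
      have := hdual 2 2
      rw [e0, zero_dotProduct, if_pos rfl] at this
      exact zero_ne_one this
    by_cases hv1 : v1 = 0
    · rw [hv1, zero_smul, add_zero, mem_smul_iff] at hm
      have hv0 : v0 ≠ 0 := fun e0 => hv (by rw [e0, hv1, zero_smul, zero_smul, add_zero])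
      have hr : Root P x (v0 • d 2) := ⟨hx.1, smul_ne_zero hv0 hd2, hm⟩
      have hz : (v0 • d 2) ⬝ᵥ y = 0 := by
        rw [smul_dotProduct, show d 2 ⬝ᵥ y = _ from hdual 2 1, if_neg (by decide), smul_zero]
      by_cases heq : φ = v0 • d 2
      · exact hφy (heq ▸ hz)
      · exact (hT.opposite hC hr hx heq hy hxy).1 hz
    · refine (hT.opposite hC hx hx' hne ⟨hv, hd2, hm⟩ fun k hk => hv1 ?_).2 ?_
      · have := congrArg (d 1 ⬝ᵥ ·) hk
        simpa [dotProduct_add, dotProduct_smul, show d 1 ⬝ᵥ x = _ from hdual 1 0,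
          show d 1 ⬝ᵥ y = _ from hdual 1 1] using this
      · exact (hdual 2 0).trans (if_neg (by decide))
  -- upper and lower unipotents
  have cup : ∀ η : V, Mem P x η → up (η ⬝ᵥ y) ∈ G := by
    intro η hη
    have hη0 := hT.dot hη
    obtain ⟨g, hg, eg⟩ := hη
    refine mem_pairGroup.2 ⟨g, hg, η ⬝ᵥ n, 0, ?_⟩
    ext i j
    rw [coords_apply, eg, one_add_mulVec, dotProduct_add, dotProduct_smul, hdual,
      show d i ⬝ᵥ x = if i = 0 then 1 else 0 from hdual i 0]
    fin_cases i <;> fin_cases j <;> simp [block, e, hη0]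
  have clo : ∀ η : V, Mem P y η → lo (η ⬝ᵥ x) ∈ G := by
    intro η hη
    have hη0 := hT.dot hη
    obtain ⟨g, hg, eg⟩ := hη
    refine mem_pairGroup.2 ⟨g, hg, 0, η ⬝ᵥ n, ?_⟩
    ext i j
    rw [coords_apply, eg, one_add_mulVec, dotProduct_add, dotProduct_smul, hdual,
      show d i ⬝ᵥ y = if i = 1 then 1 else 0 from hdual i 1]
    fin_cases i <;> fin_cases j <;> simp [block, e, hη0]
  have two0 : ∀ t : F, t + t = 0 := fun t => by rw [← two_mul, hT.two, zero_mul]
  have upback : ∀ t, up t ∈ G → ∃ η : V, Mem P x η ∧ η ⬝ᵥ y = t := by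
    intro t ht
    obtain ⟨g, hg, v0, v1, hc⟩ := mem_pairGroup.1 ht
    rcases eq_or_ne t 0 with rfl | ht0
    · exact ⟨0, mem_zero_axis x, zero_dotProduct _⟩
    have h2 : g * g = 1 := kern _ (P.mul_mem hg hg) (v0 + t * v1 + v0) (v1 + v1) (by
      rw [Units.val_mul, coords_mul hdual, hc, block_mul]
      ext i j
      fin_cases i <;> fin_cases j <;> simp [block, two0])
    have hv1 : v1 = 0 := by
      have h3 := congrArg (fun M : M3 => coords e d M 0 2) (congrArg Units.val h2)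
      simp only [Units.val_mul, Units.val_one, coords_mul hdual, coords_one hdual, hc, block_mul] at h3
      simp [block] at h3
      exact (mul_eq_zero.1 (by linear_combination h3 - two0 v0)).resolve_left ht0
    refine ⟨t • d 1 + v0 • d 2, ⟨g, hg, coords_inj hdual ?_⟩, ?_⟩
    · rw [hc, hv1]
      ext i j
      rw [coords_apply, one_add_mulVec, dotProduct_add, dotProduct_smul, hdual, add_dotProduct,
        smul_dotProduct, smul_dotProduct, hdual, hdual, show d i ⬝ᵥ x = if i = 0 then 1 else 0 from hdual i 0]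
      fin_cases i <;> fin_cases j <;> simp [block]
    · rw [add_dotProduct, smul_dotProduct, smul_dotProduct, show d 1 ⬝ᵥ y = _ from hdual 1 1,
        show d 2 ⬝ᵥ y = _ from hdual 2 1]
      simp
  have loback : ∀ t, lo t ∈ G → ∃ η : V, Mem P y η ∧ η ⬝ᵥ x = t := by
    intro t ht
    obtain ⟨g, hg, v0, v1, hc⟩ := mem_pairGroup.1 ht
    rcases eq_or_ne t 0 with rfl | ht0
    · exact ⟨0, mem_zero_axis y, zero_dotProduct _⟩
    have h2 : g * g = 1 := kern _ (P.mul_mem hg hg) (v0 + v0) (t * v0 + v1 + v1) (by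
      rw [Units.val_mul, coords_mul hdual, hc, block_mul]
      ext i j
      fin_cases i <;> fin_cases j <;> simp [block, two0])
    have hv0 : v0 = 0 := by
      have h3 := congrArg (fun M : M3 => coords e d M 1 2) (congrArg Units.val h2)
      simp only [Units.val_mul, Units.val_one, coords_mul hdual, coords_one hdual, hc, block_mul] at h3
      simp [block] at h3
      exact (mul_eq_zero.1 (by linear_combination h3 - two0 v1)).resolve_left ht0
    refine ⟨t • d 0 + v1 • d 2, ⟨g, hg, coords_inj hdual ?_⟩, ?_⟩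
    · rw [hc, hv0]
      ext i j
      rw [coords_apply, one_add_mulVec, dotProduct_add, dotProduct_smul, hdual, add_dotProduct,
        smul_dotProduct, smul_dotProduct, hdual, hdual, show d i ⬝ᵥ y = if i = 1 then 1 else 0 from hdual i 1]
      fin_cases i <;> fin_cases j <;> simp [block]
    · rw [add_dotProduct, smul_dotProduct, smul_dotProduct, show d 0 ⬝ᵥ x = _ from hdual 0 0,
        show d 2 ⬝ᵥ x = _ from hdual 2 0]
      simp
  -- the evaluation at the second centre is faithful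
  have inj : ∀ η η' : V, Mem P x η → Mem P x η' → η ⬝ᵥ y = η' ⬝ᵥ y → η = η' := by
    intro η η' h1 h2 he
    have h3 := hT.add_axis h1 h2
    have hz : (η + η') ⬝ᵥ y = 0 := by rw [add_dotProduct, he, two0]
    by_contra hne'
    have hr : Root P x (η + η') := ⟨hx.1, fun e0 => hne' (by
      rw [← hT.neg η', eq_neg_iff_add_eq_zero]; exact e0), h3⟩
    by_cases heq : φ = η + η'
    · exact hφy (heq ▸ hz)
    · exact (hT.opposite hC hr hx heq hy hxy).1 hz
  let eqv : {η : V // Mem P x η} ≃ param G := Equiv.ofBijective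
    (fun η => (⟨η.1 ⬝ᵥ y, cup η.1 η.2⟩ : param G))
    ⟨fun a b hab => Subtype.ext (inj _ _ a.2 b.2 (congrArg Subtype.val hab)),
      fun t => by
        obtain ⟨η, hη, he⟩ := upback t.1 t.2
        exact ⟨⟨η, hη⟩, Subtype.ext he⟩⟩
  have hcard := Nat.card_congr eqv
  have hQ : 3 ≤ Nat.card (param G) := by
    rw [← hcard]
    have hinj : Function.Injective (![⟨0, mem_zero_axis x⟩, ⟨φ, hx.2.2⟩, ⟨φ', hx'.2.2⟩] :
        Fin 3 → {η : V // Mem P x η}) := by
      intro i j hij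
      have := congrArg Subtype.val hij
      fin_cases i <;> fin_cases j <;>
        simp [hx.2.1, hx.2.1.symm, hx'.2.1, hx'.2.1.symm, hne, hne.symm] at this ⊢
    simpa using Nat.card_le_card_of_injective _ hinj
  have hk : (nG G).index = Nat.card (param G) + 1 :=
    (index_cases 2 G hφy (cup _ hx.2.2) hψx (clo _ hy.2.2) hQ).resolve_right fun h =>
      absurd h.1 (by norm_num)
  obtain ⟨K, hKc, hKu, hKl⟩ := field_of_index 2 G hφy (cup _ hx.2.2) hψx (clo _ hy.2.2) hk
  set b := φ ⬝ᵥ y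
  refine ⟨K, b, hφy, hKc.symm ▸ hQ, hKc.trans hcard.symm, fun η hη => (hKu _).1 (cup η hη),
    fun k hk' => upback _ ((hKu _).2 (by rwa [mul_div_cancel_right₀ _ hφy])), ?_, ?_⟩
  · intro s hs hs0
    have w : ∀ t : F, t ≠ 0 → t / b ∈ K → ∃ W ∈ G, (W : SL).1 = !![0, t; -t⁻¹, 0] := by
      intro t ht htK
      have hl : -t⁻¹ * b ∈ K := by
        have := K.neg_mem (K.inv_mem htK)
        rwa [inv_div, div_eq_inv_mul, ← neg_mul] at this
      refine ⟨up t * lo (-t⁻¹) * up t, G.mul_mem (G.mul_mem ((hKu _).2 htK) ((hKl _).2 hl)) ((hKu _).2 htK), ?_⟩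
      ext i j
      fin_cases i <;> fin_cases j <;> simp [Matrix.mul_apply, Fin.sum_univ_two, ht]
    obtain ⟨W, hW, eW⟩ := w (s * b) (mul_ne_zero hs0 hφy) (by rwa [mul_div_cancel_right₀ _ hφy])
    obtain ⟨W', hW', eW'⟩ := w b hφy (by rw [div_self hφy]; exact K.one_mem)
    obtain ⟨g, hg, v0, v1, hc⟩ := mem_pairGroup.1 (G.mul_mem hW hW')
    have hWW : (W * W').1 = !![s, 0; 0, s⁻¹] := by
      rw [show (W * W').1 = W.1 * W'.1 from rfl, eW, eW']
      ext i j
      fin_cases i <;> fin_cases j <;>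
        simp [Matrix.mul_apply, Fin.sum_univ_two, hT.negF] <;> field_simp
    have hcol : ∀ j, g.1 *ᵥ e j =
        (coords e d g.1 0 j) • x + (coords e d g.1 1 j) • y + (coords e d g.1 2 j) • n := fun j => by
      simp only [coords_apply]
      exact hexp _
    rw [hWW] at hc
    refine ⟨g, hg, ?_, ?_, fun v => ⟨(s - 1) * d 0 ⬝ᵥ v + v0 * d 2 ⬝ᵥ v,
      (s⁻¹ - 1) * d 1 ⬝ᵥ v + v1 * d 2 ⬝ᵥ v, ?_⟩⟩
    · have := hcol 0
      simpa [hc, block, e] using this
    · have := hcol 1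
      simpa [hc, block, e] using this
    · have e0 := hcol 0
      have e1 := hcol 1
      have e2 := hcol 2
      simp [hc, block, e] at e0 e1 e2
      conv_lhs => rw [hexp v]
      conv_rhs => arg 1; arg 1; rw [hexp v]
      simp only [mulVec_add, mulVec_smul, e0, e1, e2]
      module
  · have hex : ∃ s ∈ K, s ≠ 0 ∧ s ≠ ψ ⬝ᵥ x * b := by
      by_contra hne'
      push Not at hne'
      have hle : Nat.card K ≤ 2 := by
        have hinj : Function.Injective (fun s : K => decide ((s : F) = 0)) := by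
          intro a c hac
          simp only [decide_eq_decide] at hac
          refine Subtype.ext ?_
          by_cases ha : (a : F) = 0
          · rw [ha, hac.1 ha]
          · rw [hne' a a.2 ha, hne' c c.2 (fun hc => ha (hac.2 hc))]
        simpa using Nat.card_le_card_of_injective _ hinj
      omega
    obtain ⟨s, hs, hs0, hsne⟩ := hex
    obtain ⟨η, hη, he⟩ := loback (s / b) ((hKl _).2 (by rwa [div_mul_cancel₀ _ hφy]))
    refine ⟨η, ⟨hy.1, fun e0 => ?_, hη⟩, fun e0 => hsne ?_⟩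
    · rw [e0, zero_dotProduct] at he
      exact div_ne_zero hs0 hφy he.symm
    · rw [← e0, he, div_mul_cancel₀ _ hφy]

end CfsgLib.ResThree.Tv
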